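import Mathlib.GroupTheory.GroupAction.Quotient
import Mathlib.GroupTheory.GroupAction.SubMulAction
import Mathlib.Algebra.Group.Action.Sum
import Mathlib.Algebra.Group.Action.Sigma
import Mathlib.Data.Nat.ModEq
import Mathlib.GroupTheory.Sylow
import Mathlib.Data.Fintype.Lattice
set_option linter.all false

/-!
# Finite `G`-sets: marks (helper980)

`mark X L` is the number of points of the `D`-set `X` fixed by the subgroup `L`.
* `card_mul_mark_modEq`: Burnside congruence for two `K`-sets with the same marks above a normal subgroup.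
* `exists_equiv_of_mark_eq`: finite `D`-sets with equal marks are isomorphic.
* `exists_orbits`: adding orbits with prescribed multiplicities.
* `exists_stabilize`: abstract stabilization theorem (Broto-Levi-Oliver 5.4).
-/

set_option autoImplicit false

namespace Cfsg.Agent.H980

open MulAction

universe u v w

/-- The number of points of `X` fixed by all elements of `L`. -/
noncomputable def mark {D : Type*} [Group D] (X : Type*) [MulAction D X] (L : Subgroup D) : ℕ :=
  Nat.card {x : X // ∀ g ∈ L, g • x = x}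

section basic

variable {D : Type*} [Group D] {X : Type*} [MulAction D X]

theorem mark_bot : mark X (⊥ : Subgroup D) = Nat.card X := by
  refine Nat.card_congr (Equiv.subtypeUnivEquiv fun x => ?_)
  intro g hg
  rw [Subgroup.mem_bot.1 hg, one_smul]

theorem mark_le_card [Finite X] (L : Subgroup D) : mark X L ≤ Nat.card X :=
  Nat.card_le_card_of_injective _ Subtype.val_injective

theorem mark_conj (g : D) (L : Subgroup D) :
    mark X (L.map (MulAut.conj g).toMonoidHom) = mark X L := by
  refine Nat.card_congr (Equiv.symm ⟨fun x => ⟨g • x.1, ?_⟩, fun x => ⟨g⁻¹ • x.1, ?_⟩, ?_, ?_⟩)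
  · rintro _ ⟨l, hl, rfl⟩
    show (g * l * g⁻¹) • g • x.1 = g • x.1
    rw [mul_smul, inv_smul_smul, mul_smul, x.2 l hl]
  · intro l hl
    have := x.2 (g * l * g⁻¹) ⟨l, hl, rfl⟩
    rw [mul_smul, mul_smul] at this
    have h2 := congrArg (fun y => g⁻¹ • y) this
    simpa using h2
  · intro x
    exact Subtype.ext (inv_smul_smul g x.1)
  · intro x
    exact Subtype.ext (smul_inv_smul g x.1)

theorem mark_pos_iff [Finite X] (L : Subgroup D) : 0 < mark X L ↔ ∃ x : X, L ≤ stabilizer D x := by
  unfold mark
  rw [Nat.card_pos_iff]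
  constructor
  · rintro ⟨⟨x, hx⟩, -⟩
    exact ⟨x, fun g hg => hx g hg⟩
  · rintro ⟨x, hx⟩
    exact ⟨⟨x, fun g hg => hx hg⟩, inferInstance⟩

theorem mark_eq_zero [Finite X] (L : Subgroup D) (h : ∀ x : X, ¬ L ≤ stabilizer D x) :
    mark X L = 0 := by
  by_contra hne
  obtain ⟨x, hx⟩ := (mark_pos_iff L).1 (Nat.pos_of_ne_zero hne)
  exact h x hx

theorem mark_congr {Y : Type*} [MulAction D Y] (e : X ≃ Y) (he : ∀ (g : D) (x : X), e (g • x) = g • e x)
    (L : Subgroup D) : mark X L = mark Y L := by
  refine Nat.card_congr (e.subtypeEquiv fun x => ?_)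
  constructor
  · intro h g hg
    rw [← he, h g hg]
  · intro h g hg
    apply e.injective
    rw [he, h g hg]

theorem mark_sum {Y : Type*} [MulAction D Y] [Finite X] [Finite Y] (L : Subgroup D) :
    mark (X ⊕ Y) L = mark X L + mark Y L := by
  unfold mark
  rw [← Nat.card_sum]
  refine Nat.card_congr
    ⟨fun x => match x with
      | ⟨Sum.inl a, h⟩ => Sum.inl ⟨a, fun g hg => Sum.inl_injective (h g hg)⟩
      | ⟨Sum.inr a, h⟩ => Sum.inr ⟨a, fun g hg => Sum.inr_injective (h g hg)⟩,
     fun x => match x with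
      | Sum.inl a => ⟨Sum.inl a.1, fun g hg => congrArg Sum.inl (a.2 g hg)⟩
      | Sum.inr a => ⟨Sum.inr a.1, fun g hg => congrArg Sum.inr (a.2 g hg)⟩, ?_, ?_⟩
  · rintro ⟨a | a, h⟩ <;> rfl
  · rintro (a | a) <;> rfl

theorem mark_sigma {I : Type*} [Finite I] {Z : I → Type*} [∀ i, MulAction D (Z i)]
    [∀ i, Finite (Z i)] (L : Subgroup D) :
    mark (Σ i, Z i) L = ∑ᶠ i, mark (Z i) L := by
  classical
  have := Fintype.ofFinite I
  rw [finsum_eq_sum_of_fintype]
  unfold mark
  rw [← Nat.card_sigma]
  refine Nat.card_congr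
    ⟨fun x => ⟨x.1.1, ⟨x.1.2, fun g hg => ?_⟩⟩,
     fun x => ⟨⟨x.1, x.2.1⟩, fun g hg => ?_⟩, ?_, ?_⟩
  · have := x.2 g hg
    exact eq_of_heq (Sigma.mk.inj this).2
  · exact Sigma.ext rfl (heq_of_eq (x.2.2 g hg))
  · rintro ⟨⟨i, z⟩, h⟩
    rfl
  · rintro ⟨i, z, h⟩
    rfl

end basic

/-! ### Burnside congruences -/

section burnside

variable {K : Type*} [Group K] [Finite K]

/-- The fixed points of a normal subgroup, as a sub-`K`-set. -/
def fixSub (X : Type*) [MulAction K X] (L : Subgroup K) [hL : L.Normal] : SubMulAction K X where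
  carrier := {x | ∀ g ∈ L, g • x = x}
  smul_mem' := by
    intro k x hx g hg
    have h1 : k⁻¹ * g * k ∈ L := by
      have := hL.conj_mem g hg k⁻¹
      simpa using this
    have h2 := hx _ h1
    have h3 : (g * k) • x = k • (k⁻¹ * g * k) • x := by
      rw [← mul_smul]
      congr 1
      group
    rw [← mul_smul, h3, h2]

omit [Finite K] in
theorem card_fixedBy_fixSub (X : Type*) [MulAction K X] (L : Subgroup K) [hL : L.Normal] (g : K) :
    Nat.card (fixedBy (fixSub X L) g) = mark X (L ⊔ Subgroup.zpowers g) := by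
  refine Nat.card_congr ⟨fun x => ⟨x.1.1, ?_⟩, fun x => ⟨⟨x.1, ?_⟩, ?_⟩, ?_, ?_⟩
  · have h : L ⊔ Subgroup.zpowers g ≤ stabilizer K (x.1.1 : X) := by
      refine sup_le (fun l hl => x.1.2 l hl) ?_
      rw [Subgroup.zpowers_le]
      exact congrArg Subtype.val x.2
    exact fun l hl => h hl
  · exact fun l hl => x.2 l (Subgroup.mem_sup_left hl)
  · exact Subtype.ext (x.2 g (Subgroup.mem_sup_right (Subgroup.mem_zpowers g)))
  · intro x
    rfl
  · intro x
    rfl

theorem sum_mark_eq (X : Type*) [MulAction K X] [Finite X] (L : Subgroup K) [hL : L.Normal] :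
    ∃ r : ℕ, ∑ᶠ g : K, mark X (L ⊔ Subgroup.zpowers g) = r * Nat.card K := by
  classical
  have := Fintype.ofFinite K
  have := Fintype.ofFinite X
  have : ∀ g : K, Fintype (fixedBy (fixSub X L) g) := fun g => Fintype.ofFinite _
  have : Fintype (Quotient (orbitRel K (fixSub X L))) := Fintype.ofFinite _
  have h := sum_card_fixedBy_eq_card_orbits_mul_card_group K (fixSub X L)
  refine ⟨Fintype.card (Quotient (orbitRel K (fixSub X L))), ?_⟩
  rw [finsum_eq_sum_of_fintype, Nat.card_eq_fintype_card, ← h]
  refine Finset.sum_congr rfl fun g _ => ?_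
  rw [← card_fixedBy_fixSub, Nat.card_eq_fintype_card]

/-- Two finite `K`-sets with the same marks at all subgroups properly containing the normal subgroup `L`
have marks at `L` congruent modulo `|K : L|`. -/
theorem card_mul_mark_modEq (X : Type*) [MulAction K X] [Finite X] (Y : Type*) [MulAction K Y]
    [Finite Y] (L : Subgroup K) [hL : L.Normal]
    (h : ∀ M : Subgroup K, L < M → mark X M = mark Y M) :
    Nat.card L * mark X L ≡ Nat.card L * mark Y L [MOD Nat.card K] := by
  classical
  have := Fintype.ofFinite K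
  obtain ⟨r, hr⟩ := sum_mark_eq X L
  obtain ⟨t, ht⟩ := sum_mark_eq Y L
  rw [finsum_eq_sum_of_fintype] at hr ht
  have key := fun (m : Subgroup K → ℕ) => show ∑ g : K, m (L ⊔ Subgroup.zpowers g) =
      Nat.card L * m L + ∑ g : K, if g ∈ L then 0 else m (L ⊔ Subgroup.zpowers g) by
    have h1 : ∀ g : K, m (L ⊔ Subgroup.zpowers g) =
        (if g ∈ L then m L else 0) + (if g ∈ L then 0 else m (L ⊔ Subgroup.zpowers g)) := by
      intro g
      by_cases hg : g ∈ L
      · rw [if_pos hg, if_pos hg, sup_eq_left.2 ((Subgroup.zpowers_le).2 hg)]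
        rfl
      · rw [if_neg hg, if_neg hg, zero_add]
    rw [Finset.sum_congr rfl (fun g _ => h1 g), Finset.sum_add_distrib]
    congr 1
    rw [← Finset.sum_filter, Finset.sum_const, smul_eq_mul]
    congr 1
    rw [Nat.card_eq_fintype_card]
    exact (Fintype.card_subtype _).symm
  have hX := key (fun M => mark X M)
  have hY := key (fun M => mark Y M)
  have hrest : ∑ g : K, (if g ∈ L then 0 else mark X (L ⊔ Subgroup.zpowers g)) =
      ∑ g : K, (if g ∈ L then 0 else mark Y (L ⊔ Subgroup.zpowers g)) := by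
    refine Finset.sum_congr rfl fun g _ => ?_
    by_cases hg : g ∈ L
    · rw [if_pos hg, if_pos hg]
    · rw [if_neg hg, if_neg hg]
      refine h _ (lt_of_le_of_ne le_sup_left fun he => hg ?_)
      have : g ∈ L ⊔ Subgroup.zpowers g := Subgroup.mem_sup_right (Subgroup.mem_zpowers g)
      rwa [← he] at this
  rw [hr] at hX
  rw [ht] at hY
  rw [hrest] at hX
  have h1 : (Nat.card L * mark X L +
      ∑ g : K, (if g ∈ L then 0 else mark Y (L ⊔ Subgroup.zpowers g))) ≡
      (Nat.card L * mark Y L +
      ∑ g : K, (if g ∈ L then 0 else mark Y (L ⊔ Subgroup.zpowers g))) [MOD Nat.card K] := by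
    rw [← hX, ← hY]
    exact ((Nat.modEq_zero_iff_dvd.2 (Dvd.intro_left _ rfl))).trans
      ((Nat.modEq_zero_iff_dvd.2 (Dvd.intro_left _ rfl))).symm
  exact Nat.ModEq.add_right_cancel' _ h1

end burnside

/-! ### Equal marks imply isomorphic -/

section iso

variable {D : Type*} [Group D] [Finite D]

omit [Finite D] in
theorem smul_mem_orbit_iff' {X : Type*} [MulAction D X] (x y : X) (g : D) :
    g • y ∈ orbit D x ↔ y ∈ orbit D x := by
  rw [← orbit_eq_iff, ← orbit_eq_iff, orbit_smul]

/-- The complement of an orbit. -/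
def offOrbit {X : Type*} [MulAction D X] (x : X) : SubMulAction D X where
  carrier := {y | y ∉ orbit D x}
  smul_mem' := by
    intro k y hy h
    exact hy ((smul_mem_orbit_iff' x y k).1 h)

omit [Finite D] in
theorem mark_split {X : Type*} [MulAction D X] [Finite X] (x : X) (L : Subgroup D) :
    mark X L = mark (orbit D x) L + mark (offOrbit (D := D) x) L := by
  classical
  unfold mark
  rw [← Nat.card_sum]
  refine Nat.card_congr (Equiv.symm ⟨fun y => ?_, fun y => ?_, ?_, ?_⟩)
  · rcases y with y | y
    · exact ⟨y.1.1, fun g hg => congrArg Subtype.val (y.2 g hg)⟩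
    · exact ⟨y.1.1, fun g hg => congrArg Subtype.val (y.2 g hg)⟩
  · by_cases h : y.1 ∈ orbit D x
    · exact Sum.inl ⟨⟨y.1, h⟩, fun g hg => Subtype.ext (y.2 g hg)⟩
    · exact Sum.inr ⟨⟨y.1, h⟩, fun g hg => Subtype.ext (y.2 g hg)⟩
  · rintro (⟨⟨y, h⟩, h'⟩ | ⟨⟨y, h⟩, h'⟩)
    · exact dif_pos h
    · exact dif_neg h
  · rintro ⟨y, h⟩
    by_cases h' : y ∈ orbit D x
    · simp only [dif_pos h']
    · simp only [dif_neg h']

theorem exists_equiv_of_mark_eq_aux (n : ℕ) : ∀ (X : Type u) (Y : Type v) [MulAction D X]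
    [MulAction D Y] [Finite X] [Finite Y], Nat.card X = n →
    (∀ L : Subgroup D, mark X L = mark Y L) → ∃ e : X ≃ Y, ∀ (g : D) (x : X), e (g • x) = g • e x := by
  induction n using Nat.strong_induction_on with
  | _ n ih =>
  intro X Y _ _ _ _ hn hm
  classical
  rcases isEmpty_or_nonempty X with hX | hX
  · have h0 : Nat.card Y = 0 := by
      rw [← mark_bot (D := D) (X := Y), ← hm, mark_bot]
      exact Nat.card_of_isEmpty
    have hY : IsEmpty Y := (Finite.card_eq_zero_iff).1 h0
    exact ⟨Equiv.equivOfIsEmpty X Y, fun g x => isEmptyElim x⟩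
  · obtain ⟨x, hx⟩ := Finite.exists_max (fun x : X => Nat.card (stabilizer D x))
    have h1 : 0 < mark X (stabilizer D x) := (mark_pos_iff _).2 ⟨x, le_rfl⟩
    rw [hm] at h1
    obtain ⟨y, hy⟩ := (mark_pos_iff _).1 h1
    have h2 : 0 < mark Y (stabilizer D y) := (mark_pos_iff _).2 ⟨y, le_rfl⟩
    rw [← hm] at h2
    obtain ⟨x', hx'⟩ := (mark_pos_iff _).1 h2
    have hxy : stabilizer D x = stabilizer D y := by
      refine Subgroup.eq_of_le_of_card_ge hy ?_
      exact (Subgroup.card_le_of_le hx').trans (hx x')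
    -- the orbits are isomorphic
    let eO : orbit D x ≃ orbit D y :=
      (orbitEquivQuotientStabilizer D x).trans
        ((Subgroup.quotientEquivOfEq hxy).trans (orbitEquivQuotientStabilizer D y).symm)
    have heO1 : ∀ g : D, eO ⟨g • x, mem_orbit x g⟩ = ⟨g • y, mem_orbit y g⟩ := by
      intro g
      have e1 : (orbitEquivQuotientStabilizer D x) ⟨g • x, mem_orbit x g⟩ = (g : D ⧸ stabilizer D x) := by
        rw [← Equiv.eq_symm_apply]
        apply Subtype.ext
        rw [orbitEquivQuotientStabilizer_symm_apply]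
      show (orbitEquivQuotientStabilizer D y).symm ((Subgroup.quotientEquivOfEq hxy)
        ((orbitEquivQuotientStabilizer D x) ⟨g • x, mem_orbit x g⟩)) = _
      rw [e1]
      apply Subtype.ext
      rw [Subgroup.quotientEquivOfEq_mk, orbitEquivQuotientStabilizer_symm_apply]
    have heO : ∀ (g : D) (z : orbit D x), eO (g • z) = g • eO z := by
      rintro g ⟨_, k, rfl⟩
      have e1 : (g • (⟨(fun m : D => m • x) k, ⟨k, rfl⟩⟩ : orbit D x)) =
          ⟨(g * k) • x, mem_orbit x (g * k)⟩ := by
        apply Subtype.ext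
        show g • k • x = (g * k) • x
        rw [mul_smul]
      rw [e1, heO1]
      have e2 := heO1 k
      have e3 : (⟨(fun m : D => m • x) k, ⟨k, rfl⟩⟩ : orbit D x) = ⟨k • x, mem_orbit x k⟩ := rfl
      rw [e3, e2]
      apply Subtype.ext
      show (g * k) • y = g • k • y
      rw [mul_smul]
    have hmO : ∀ L : Subgroup D, mark (orbit D x) L = mark (orbit D y) L := mark_congr eO heO
    have hm' : ∀ L : Subgroup D, mark (offOrbit (D := D) x) L = mark (offOrbit (D := D) y) L := by
      intro L
      have a1 := mark_split x L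
      have a2 := mark_split y L
      have a3 := hm L
      have a4 := hmO L
      omega
    have hlt : Nat.card (offOrbit (D := D) x) < n := by
      rw [← hn]
      refine Finite.card_subtype_lt (x := x) ?_
      intro h
      exact h (mem_orbit_self x)
    obtain ⟨e, he⟩ := ih _ hlt (offOrbit (D := D) x) (offOrbit (D := D) y) rfl hm'
    refine ⟨⟨fun z => if h : z ∈ orbit D x then (eO ⟨z, h⟩ : Y) else (e ⟨z, h⟩ : Y),
      fun z => if h : z ∈ orbit D y then (eO.symm ⟨z, h⟩ : X) else (e.symm ⟨z, h⟩ : X), ?_, ?_⟩, ?_⟩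
    · intro z
      by_cases h : z ∈ orbit D x
      · simp only [dif_pos h]
        rw [dif_pos (eO ⟨z, h⟩).2]
        simp
      · simp only [dif_neg h]
        rw [dif_neg (e ⟨z, h⟩).2]
        have : (⟨((e ⟨z, h⟩ : offOrbit (D := D) y) : Y), (e ⟨z, h⟩).2⟩ : offOrbit (D := D) y) =
          e ⟨z, h⟩ := rfl
        rw [this, Equiv.symm_apply_apply]
    · intro z
      by_cases h : z ∈ orbit D y
      · simp only [dif_pos h]
        rw [dif_pos (eO.symm ⟨z, h⟩).2]
        simp
      · simp only [dif_neg h]
        rw [dif_neg (e.symm ⟨z, h⟩).2]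
        have : (⟨((e.symm ⟨z, h⟩ : offOrbit (D := D) x) : X), (e.symm ⟨z, h⟩).2⟩ :
          offOrbit (D := D) x) = e.symm ⟨z, h⟩ := rfl
        rw [this, Equiv.apply_symm_apply]
    · intro g z
      show (if h : g • z ∈ orbit D x then (eO ⟨g • z, h⟩ : Y) else (e ⟨g • z, h⟩ : Y)) =
        g • (if h : z ∈ orbit D x then (eO ⟨z, h⟩ : Y) else (e ⟨z, h⟩ : Y))
      by_cases h : z ∈ orbit D x
      · have h' : g • z ∈ orbit D x := (smul_mem_orbit_iff' x z g).2 h
        rw [dif_pos h, dif_pos h']
        exact congrArg Subtype.val (heO g ⟨z, h⟩)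
      · have h' : g • z ∉ orbit D x := fun h' => h ((smul_mem_orbit_iff' x z g).1 h')
        rw [dif_neg h, dif_neg h']
        exact congrArg Subtype.val (he g ⟨z, h⟩)

/-- Finite `D`-sets with equal marks are isomorphic. -/
theorem exists_equiv_of_mark_eq (X : Type u) (Y : Type v) [MulAction D X]
    [MulAction D Y] [Finite X] [Finite Y] (h : ∀ L : Subgroup D, mark X L = mark Y L) :
    ∃ e : X ≃ Y, ∀ (g : D) (x : X), e (g • x) = g • e x :=
  exists_equiv_of_mark_eq_aux _ X Y rfl h

end iso

/-! ### Adding orbits -/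

section orbits

variable {D : Type u} [Group D] [Finite D]

/-- Conjugacy of subgroups. -/
def conjSetoid (D : Type u) [Group D] : Setoid (Subgroup D) where
  r L M := ∃ g : D, M = L.map (MulAut.conj g).toMonoidHom
  iseqv := by
    refine ⟨fun L => ⟨1, ?_⟩, ?_, ?_⟩
    · ext x
      simp
    · rintro L M ⟨g, rfl⟩
      refine ⟨g⁻¹, ?_⟩
      rw [Subgroup.map_map]
      ext x
      constructor
      · intro hx
        exact ⟨x, hx, by simp [mul_assoc]⟩
      · rintro ⟨y, hy, rfl⟩
        simpa [mul_assoc] using hy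
    · rintro L M N ⟨g, rfl⟩ ⟨h, rfl⟩
      refine ⟨h * g, ?_⟩
      rw [Subgroup.map_map]
      congr 1
      ext x
      simp [mul_assoc]

omit [Finite D] in
theorem le_stabilizer_mk_iff (L H : Subgroup D) (g : D) :
    L ≤ stabilizer D (g : D ⧸ H) ↔ L.map (MulAut.conj g⁻¹).toMonoidHom ≤ H := by
  constructor
  · rintro h _ ⟨l, hl, rfl⟩
    have h1 : l • (g : D ⧸ H) = g := h hl
    rw [MulAction.Quotient.smul_coe, smul_eq_mul, eq_comm, QuotientGroup.eq] at h1
    simpa [mul_assoc] using h1
  · intro h l hl
    show l • (g : D ⧸ H) = g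
    rw [MulAction.Quotient.smul_coe, smul_eq_mul, eq_comm, QuotientGroup.eq]
    have := h ⟨l, hl, rfl⟩
    simpa [mul_assoc] using this

theorem mark_quotient_eq_zero {L H : Subgroup D}
    (h : ∀ g : D, ¬ L.map (MulAut.conj g⁻¹).toMonoidHom ≤ H) : mark (D ⧸ H) L = 0 := by
  refine mark_eq_zero L fun x => ?_
  obtain ⟨g, rfl⟩ := QuotientGroup.mk_surjective x
  rw [le_stabilizer_mk_iff]
  exact h g

omit [Finite D] in
theorem card_map_conj (g : D) (L : Subgroup D) :
    Nat.card (L.map (MulAut.conj g).toMonoidHom) = Nat.card L :=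
  Nat.card_congr (L.equivMapOfInjective _ (MulAut.conj g).injective).symm.toEquiv

/-- The index of `L` in its normalizer. -/
noncomputable def nidx (L : Subgroup D) : ℕ := L.relIndex (Subgroup.normalizer (L : Set D))

omit [Finite D] in
theorem card_mul_nidx (L : Subgroup D) :
    Nat.card L * nidx L = Nat.card (Subgroup.normalizer (L : Set D)) := by
  have h := Subgroup.card_mul_index (L.subgroupOf (Subgroup.normalizer (L : Set D)))
  rwa [Nat.card_congr (Subgroup.subgroupOfEquivOfLe
    (Subgroup.le_normalizer (H := L))).toEquiv] at h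

theorem nidx_pos (L : Subgroup D) : 0 < nidx L := by
  refine Nat.pos_of_ne_zero fun h => ?_
  have := card_mul_nidx L
  rw [h, mul_zero] at this
  exact Nat.card_pos.ne this

theorem mark_quotient_self (H : Subgroup D) : mark (D ⧸ H) H = nidx H := by
  have h1 := Nat.card_congr (Sylow.fixedPointsMulLeftCosetsEquivQuotient H)
  have h2 : mark (D ⧸ H) H = Nat.card (fixedPoints H (D ⧸ H)) := by
    refine Nat.card_congr (Equiv.subtypeEquivRight fun x => ?_)
    constructor
    · rintro h ⟨g, hg⟩
      exact h g hg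
    · intro h g hg
      exact h ⟨g, hg⟩
  rw [h2, h1]
  rfl

omit [Finite D] in
theorem normalizer_map_conj (g : D) (L : Subgroup D) :
    Subgroup.normalizer ((L.map (MulAut.conj g).toMonoidHom : Subgroup D) : Set D) =
      (Subgroup.normalizer (L : Set D)).map (MulAut.conj g).toMonoidHom := by
  ext x
  have key : ∀ (z : D), z ∈ L.map (MulAut.conj g).toMonoidHom ↔ g⁻¹ * z * g ∈ L := by
    intro z
    constructor
    · rintro ⟨y, hy, rfl⟩
      simpa [mul_assoc] using hy
    · intro h
      exact ⟨_, h, by simp [mul_assoc]⟩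
  have key2 : x ∈ (Subgroup.normalizer (L : Set D)).map (MulAut.conj g).toMonoidHom ↔
      g⁻¹ * x * g ∈ Subgroup.normalizer (L : Set D) := by
    constructor
    · rintro ⟨y, hy, rfl⟩
      simpa [mul_assoc] using hy
    · intro h
      exact ⟨_, h, by simp [mul_assoc]⟩
  rw [key2, Subgroup.mem_normalizer_iff, Subgroup.mem_normalizer_iff]
  constructor
  · intro h z
    have := h (g * z * g⁻¹)
    rw [key, key] at this
    simpa [mul_assoc] using this
  · intro h z
    have := h (g⁻¹ * z * g)
    rw [key, key]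
    simpa [mul_assoc] using this

theorem nidx_map_conj (g : D) (L : Subgroup D) :
    nidx (L.map (MulAut.conj g).toMonoidHom) = nidx L := by
  have h1 := card_mul_nidx L
  have h2 := card_mul_nidx (L.map (MulAut.conj g).toMonoidHom)
  rw [normalizer_map_conj, card_map_conj, card_map_conj, ← h1] at h2
  exact Nat.eq_of_mul_eq_mul_left Nat.card_pos h2

omit [Finite D] in
theorem stabilizer_mk (H : Subgroup D) (g : D) :
    stabilizer D (g : D ⧸ H) = H.map (MulAut.conj g).toMonoidHom := by
  ext x
  rw [mem_stabilizer_iff, MulAction.Quotient.smul_coe, smul_eq_mul, eq_comm, QuotientGroup.eq]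
  constructor
  · intro h
    exact ⟨_, h, by simp [mul_assoc]⟩
  · rintro ⟨y, hy, rfl⟩
    simpa [mul_assoc] using hy

/-- Adding orbits with prescribed multiplicities: `n` is a conjugation invariant function supported on
subgroups of order `k`. -/
theorem exists_orbits (k : ℕ) (n : Subgroup D → ℕ)
    (hn : ∀ (g : D) (L : Subgroup D), n (L.map (MulAut.conj g).toMonoidHom) = n L)
    (hk : ∀ L, n L ≠ 0 → Nat.card L = k) :
    ∃ (Y : Type u) (_ : MulAction D Y) (_ : Finite Y),
      (∀ y : Y, n (stabilizer D y) ≠ 0) ∧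
      (∀ L : Subgroup D, k < Nat.card L → mark Y L = 0) ∧
      ∀ L : Subgroup D, Nat.card L = k → mark Y L = n L * nidx L := by
  classical
  let Q := Quotient (conjSetoid D)
  let I := Σ c : Q, Fin (n c.out)
  let Y := Σ i : I, D ⧸ (i.1.out : Subgroup D)
  have hQf : Finite Q := Quotient.finite _
  have hIf : Finite I := inferInstance
  have hYf : Finite Y := inferInstance
  have hIn : ∀ i : I, n i.1.out ≠ 0 := fun i h => by
    have := i.2
    rw [h] at this
    exact this.elim0
  refine ⟨Y, inferInstance, hYf, ?_, ?_, ?_⟩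
  · rintro ⟨i, z⟩
    obtain ⟨g, rfl⟩ := QuotientGroup.mk_surjective z
    have h1 : stabilizer D (⟨i, (g : D ⧸ (i.1.out : Subgroup D))⟩ : Y) =
        stabilizer D (g : D ⧸ (i.1.out : Subgroup D)) := by
      ext x
      rw [mem_stabilizer_iff, mem_stabilizer_iff]
      constructor
      · intro h
        exact eq_of_heq (Sigma.mk.inj h).2
      · intro h
        exact Sigma.ext rfl (heq_of_eq h)
    rw [h1, stabilizer_mk, hn]
    exact hIn i
  · intro L hL
    rw [mark_sigma]
    refine finsum_eq_zero_of_forall_eq_zero fun i => mark_quotient_eq_zero fun g h => ?_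
    have := Subgroup.card_le_of_le h
    rw [card_map_conj, hk _ (hIn i)] at this
    omega
  · intro L hL
    rw [mark_sigma]
    let c : Q := Quotient.mk (conjSetoid D) L
    have hc : ∃ g : D, L = (c.out : Subgroup D).map (MulAut.conj g).toMonoidHom :=
      Quotient.exact (s := conjSetoid D) (Quotient.out_eq c)
    obtain ⟨d, hd⟩ := hc
    have hnc : n c.out = n L := by
      rw [hd, hn]
    have hval : ∀ i : I, mark (D ⧸ (i.1.out : Subgroup D)) L = if i.1 = c then nidx L else 0 := by
      intro i
      by_cases hi : i.1 = c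
      · rw [if_pos hi, hi]
        conv_lhs => rw [hd]
        rw [mark_conj, mark_quotient_self, hd, nidx_map_conj]
      · rw [if_neg hi]
        refine mark_quotient_eq_zero fun g h => hi ?_
        have h2 : L.map (MulAut.conj g⁻¹).toMonoidHom = (i.1.out : Subgroup D) := by
          refine Subgroup.eq_of_le_of_card_ge h ?_
          rw [card_map_conj, hk _ (hIn i), hL]
        have h3 : Quotient.mk (conjSetoid D) L = Quotient.mk (conjSetoid D) (i.1.out) :=
          Quotient.sound (s := conjSetoid D) ⟨g⁻¹, h2.symm⟩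
        rw [Quotient.out_eq] at h3
        exact h3.symm
    have hI2 : Fintype I := Fintype.ofFinite I
    have hQ2 : Fintype Q := Fintype.ofFinite Q
    rw [finsum_congr hval, finsum_eq_sum_of_fintype]
    have e1 : (∑ i : I, if i.1 = c then nidx L else 0) =
        ∑ q : Q, ∑ j : Fin (n q.out), if q = c then nidx L else 0 := by
      have := Fintype.sum_sigma (fun i : I => if i.1 = c then nidx L else 0)
      convert this
    rw [e1]
    have e2 : ∀ q : Q, (∑ j : Fin (n q.out), if q = c then nidx L else 0) =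
        if q = c then n L * nidx L else 0 := by
      intro q
      by_cases hq : q = c
      · simp only [if_pos hq, Finset.sum_const, Finset.card_univ, Fintype.card_fin, smul_eq_mul]
        rw [hq, hnc]
      · simp [if_neg hq]
    rw [Finset.sum_congr rfl fun q _ => e2 q, Finset.sum_ite_eq' Finset.univ c]
    rw [if_pos (Finset.mem_univ c)]

end orbits

/-! ### Abstract stabilization -/

section stabilize

variable {D : Type u} [Group D] [Finite D]

omit [Finite D] in
theorem mark_map {K : Type*} [Group K] (ι : K →* D) (X : Type*) [MulAction D X] (M : Subgroup K) :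
    @mark K _ X (MulAction.compHom X ι) M = mark X (M.map ι) := by
  unfold mark
  refine Nat.card_congr (Equiv.subtypeEquivRight fun x => ?_)
  constructor
  · rintro h _ ⟨g, hg, rfl⟩
    exact h g hg
  · intro h g hg
    exact h (ι g) ⟨g, hg, rfl⟩

theorem mark_modEq_of_hom' {X : Type*} [MulAction D X] [Finite X] (L N : Subgroup D)
    (hN : N = Subgroup.normalizer (L : Set D)) (η : N →* D)
    (h : ∀ M : Subgroup D, L < M → M ≤ N → mark X M = mark X ((M.subgroupOf N).map η)) :
    mark X L ≡ mark X ((L.subgroupOf N).map η) [MOD nidx L] := by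
  have hLN : L ≤ N := hN ▸ Subgroup.le_normalizer
  have : (L.subgroupOf N).Normal := hN ▸ Subgroup.normal_in_normalizer
  have e0 : (L.subgroupOf N).map N.subtype = L := by
    rw [Subgroup.subgroupOf_map_subtype]
    exact inf_eq_left.2 hLN
  have key := @card_mul_mark_modEq N _ _ X (MulAction.compHom X N.subtype) _ X
    (MulAction.compHom X η) _ (L.subgroupOf N) _ (fun M hM => by
      rw [mark_map, mark_map]
      have h1 : (M.map N.subtype).subgroupOf N = M :=
        Subgroup.comap_map_eq_self_of_injective (Subgroup.subtype_injective N) M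
      have h2 : M.map N.subtype ≤ N := by
        rintro _ ⟨x, -, rfl⟩
        exact x.2
      have h3 : L < M.map N.subtype := by
        refine lt_of_le_of_ne ?_ ?_
        · rw [← e0]
          exact Subgroup.map_mono hM.le
        · intro he
          rw [← h1, ← he] at hM
          exact lt_irrefl _ hM
      rw [h _ h3 h2, h1])
  rw [mark_map, mark_map, e0] at key
  have hc : Nat.card (L.subgroupOf N) = Nat.card L :=
    Nat.card_congr (Subgroup.subgroupOfEquivOfLe hLN).toEquiv
  have hcN : Nat.card N = Nat.card L * nidx L := by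
    rw [card_mul_nidx, hN]
  rw [hc, hcN] at key
  exact Nat.ModEq.mul_left_cancel' Nat.card_pos.ne' key

/-- The congruence between the marks at `L` and at its image under `η : N(L) → D`. -/
theorem mark_modEq_of_hom {X : Type*} [MulAction D X] [Finite X] (L : Subgroup D)
    (η : Subgroup.normalizer (L : Set D) →* D)
    (h : ∀ M : Subgroup D, L < M → M ≤ Subgroup.normalizer (L : Set D) →
      mark X M = mark X ((M.subgroupOf (Subgroup.normalizer (L : Set D))).map η)) :
    mark X L ≡ mark X ((L.subgroupOf (Subgroup.normalizer (L : Set D))).map η) [MOD nidx L] :=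
  mark_modEq_of_hom' L _ rfl η h

/-- Data for stabilization: a conjugation invariant and subgroup closed family `Gr` of subgroups of `D`, with
an equivalence relation `E` on it, coarser than conjugacy, such that every class has a member `L₀` which
receives the normalizers of all members of the class. -/
structure StabData (D : Type u) [Group D] where
  /-- the family -/
  Gr : Subgroup D → Prop
  /-- the equivalence relation -/
  E : Subgroup D → Subgroup D → Prop
  gr_mono : ∀ L M, L ≤ M → Gr M → Gr L
  gr_conj : ∀ (g : D) (L : Subgroup D), Gr L → Gr (L.map (MulAut.conj g).toMonoidHom)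
  e_refl : ∀ L, Gr L → E L L
  e_symm : ∀ L M, E L M → E M L
  e_trans : ∀ L M N, E L M → E M N → E L N
  e_left : ∀ L M, E L M → Gr L
  e_card : ∀ L M, E L M → Nat.card L = Nat.card M
  e_conj : ∀ (g : D) (L : Subgroup D), Gr L → E L (L.map (MulAut.conj g).toMonoidHom)
  exists_hom : ∀ L, Gr L → ∃ L₀, E L L₀ ∧ ∀ L₁, E L L₁ →
    ∃ η : Subgroup.normalizer (L₁ : Set D) →* D, Function.Injective η ∧
      (L₁.subgroupOf (Subgroup.normalizer (L₁ : Set D))).map η = L₀ ∧
      ∀ M : Subgroup D, L₁ ≤ M → M ≤ Subgroup.normalizer (L₁ : Set D) →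
        (Gr M → E M ((M.subgroupOf (Subgroup.normalizer (L₁ : Set D))).map η)) ∧
        (Gr ((M.subgroupOf (Subgroup.normalizer (L₁ : Set D))).map η) → Gr M)

omit [Finite D] in
theorem nidx_dvd (L : Subgroup D) : nidx L ∣ Nat.card D := by
  have h1 := card_mul_nidx L
  exact (Dvd.intro_left _ h1).trans (Subgroup.card_subgroup_dvd_card _)

/-- One level of the stabilization. -/
theorem exists_level (d : StabData D) (k : ℕ) (X : Type u) [MulAction D X] [Finite X]
    (hX : ∀ x : X, d.Gr (stabilizer D x))
    (hst : ∀ L M, d.E L M → k < Nat.card L → mark X L = mark X M) :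
    ∃ (Y : Type u) (_ : MulAction D Y) (_ : Finite Y),
      (∀ y : Y, d.Gr (stabilizer D y) ∧ Nat.card (stabilizer D y) = k) ∧
      ∀ L M, d.E L M → k ≤ Nat.card L → mark X L + mark Y L = mark X M + mark Y M := by
  classical
  -- the possible target values
  let T : Subgroup D → Set ℕ := fun L =>
    {t | Nat.card X ≤ t ∧ ∀ M, d.E L M → mark X M ≡ t [MOD nidx M]}
  have hT : ∀ L, d.Gr L → Nat.card L = k → (T L).Nonempty := by
    intro L hL hLk
    obtain ⟨L₀, h0, hη⟩ := d.exists_hom L hL
    refine ⟨mark X L₀ + Nat.card D * Nat.card X, ?_, ?_⟩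
    · have : 0 < Nat.card D := Nat.card_pos
      nlinarith [Nat.zero_le (mark X L₀), Nat.zero_le (Nat.card X)]
    · intro M hM
      obtain ⟨η, hinj, hη0, hηM⟩ := hη M hM
      have hMk : Nat.card M = k := by
        rw [← d.e_card L M hM, hLk]
      have h1 : mark X M ≡ mark X L₀ [MOD nidx M] := by
        have := mark_modEq_of_hom (X := X) M η (fun N hMN hN => ?_)
        · rwa [hη0] at this
        · obtain ⟨ha, hb⟩ := hηM N hMN.le hN
          by_cases hg : d.Gr N
          · refine hst _ _ (ha hg) ?_
            rw [← hMk]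
            exact Nat.lt_of_le_of_ne (Subgroup.card_le_of_le hMN.le)
              (fun he => hMN.ne (Subgroup.eq_of_le_of_card_ge hMN.le he.ge))
          · rw [mark_eq_zero N (fun x hx => hg (d.gr_mono _ _ hx (hX x))),
              mark_eq_zero _ (fun x hx => hg (hb (d.gr_mono _ _ hx (hX x))))]
      have h2 : mark X L₀ ≡ mark X L₀ + Nat.card D * Nat.card X [MOD nidx M] := by
        have h3 : Nat.card D * Nat.card X ≡ 0 [MOD nidx M] :=
          Nat.modEq_zero_iff_dvd.2 (Dvd.dvd.mul_right (nidx_dvd M) _)
        have := h3.add_left (mark X L₀)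
        rw [add_zero] at this
        exact this.symm
      exact h1.trans h2
  let t : Subgroup D → ℕ := fun L => sInf (T L)
  have hTE : ∀ L M, d.E L M → T L = T M := by
    intro L M h
    ext t
    constructor
    · rintro ⟨h1, h2⟩
      exact ⟨h1, fun N hN => h2 N (d.e_trans _ _ _ h hN)⟩
    · rintro ⟨h1, h2⟩
      exact ⟨h1, fun N hN => h2 N (d.e_trans _ _ _ (d.e_symm _ _ h) hN)⟩
  have htE : ∀ L M, d.E L M → t L = t M := fun L M h => by
    show sInf (T L) = sInf (T M)
    rw [hTE L M h]
  have ht : ∀ L, d.Gr L → Nat.card L = k → t L ∈ T L := fun L h1 h2 => Nat.sInf_mem (hT L h1 h2)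
  let n : Subgroup D → ℕ := fun L =>
    if d.Gr L ∧ Nat.card L = k then (t L - mark X L) / nidx L else 0
  have hgr : ∀ (g : D) (L : Subgroup D), d.Gr (L.map (MulAut.conj g).toMonoidHom) ↔ d.Gr L := by
    intro g L
    refine ⟨fun h => ?_, d.gr_conj g L⟩
    have h1 := d.gr_conj g⁻¹ _ h
    have h2 : (L.map (MulAut.conj g).toMonoidHom).map (MulAut.conj g⁻¹).toMonoidHom = L := by
      rw [Subgroup.map_map]
      ext x
      constructor
      · rintro ⟨y, hy, rfl⟩
        simpa [mul_assoc] using hy
      · intro hx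
        exact ⟨x, hx, by simp [mul_assoc]⟩
    rwa [h2] at h1
  have hnconj : ∀ (g : D) (L : Subgroup D), n (L.map (MulAut.conj g).toMonoidHom) = n L := by
    intro g L
    show (if _ then _ else _) = (if _ then _ else _)
    rw [hgr, card_map_conj]
    by_cases h : d.Gr L ∧ Nat.card L = k
    · rw [if_pos h, if_pos h, mark_conj, nidx_map_conj, ← htE _ _ (d.e_conj g L h.1)]
    · rw [if_neg h, if_neg h]
  have hnk : ∀ L, n L ≠ 0 → d.Gr L ∧ Nat.card L = k := by
    intro L h
    by_contra h'
    exact h (if_neg h')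
  obtain ⟨Y, i1, i2, hY1, hY2, hY3⟩ := exists_orbits k n hnconj (fun L h => (hnk L h).2)
  refine ⟨Y, i1, i2, fun y => hnk _ (hY1 y), ?_⟩
  intro L M hLM hk
  rcases hk.lt_or_eq with hk | hk
  · have hkM : k < Nat.card M := by rwa [← d.e_card _ _ hLM]
    rw [hY2 L hk, hY2 M hkM, hst L M hLM hk]
  · have hkM : Nat.card M = k := by rw [← d.e_card _ _ hLM, hk]
    have key : ∀ L, d.Gr L → Nat.card L = k → mark X L + mark Y L = t L := by
      intro L hL hLk
      rw [hY3 L hLk]
      have h1 := ht L hL hLk
      have h2 : mark X L ≤ t L := (mark_le_card L).trans h1.1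
      have h3 : nidx L ∣ t L - mark X L :=
        (Nat.modEq_iff_dvd' h2).1 (h1.2 L (d.e_refl L hL))
      show mark X L + (if _ then _ else _) * nidx L = t L
      rw [if_pos ⟨hL, hLk⟩, Nat.div_mul_cancel h3]
      omega
    rw [key L (d.e_left _ _ hLM) hk.symm, key M (d.e_left _ _ (d.e_symm _ _ hLM)) hkM,
      htE L M hLM]

omit [Finite D] in
theorem stabilizer_inl {X Y : Type*} [MulAction D X] [MulAction D Y] (x : X) :
    stabilizer D (Sum.inl x : X ⊕ Y) = stabilizer D x := by
  ext g
  rw [mem_stabilizer_iff, mem_stabilizer_iff]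
  exact ⟨fun h => Sum.inl_injective h, fun h => congrArg Sum.inl h⟩

omit [Finite D] in
theorem stabilizer_inr {X Y : Type*} [MulAction D X] [MulAction D Y] (y : Y) :
    stabilizer D (Sum.inr y : X ⊕ Y) = stabilizer D y := by
  ext g
  rw [mem_stabilizer_iff, mem_stabilizer_iff]
  exact ⟨fun h => Sum.inr_injective h, fun h => congrArg Sum.inr h⟩

/-- **Stabilization.** A finite `D`-set with stabilizers in `Gr` whose marks are constant on the `E`-classes of
subgroups of order greater than `k` can be completed by orbits with stabilizers of order at most `k` to a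
`D`-set with marks constant on all `E`-classes. -/
theorem exists_stabilize (d : StabData D) (k : ℕ) : ∀ (X : Type u) [MulAction D X] [Finite X],
    (∀ x : X, d.Gr (stabilizer D x)) →
    (∀ L M, d.E L M → k < Nat.card L → mark X L = mark X M) →
    ∃ (Y : Type u) (_ : MulAction D Y) (_ : Finite Y),
      (∀ y : Y, d.Gr (stabilizer D y) ∧ Nat.card (stabilizer D y) ≤ k) ∧
      ∀ L M, d.E L M → mark X L + mark Y L = mark X M + mark Y M := by
  induction k with
  | zero =>
    intro X _ _ hX hst
    let _ : MulAction D PEmpty.{u+1} :=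
      { smul := fun _ x => x.elim, one_smul := fun x => x.elim, mul_smul := fun _ _ x => x.elim }
    refine ⟨PEmpty.{u+1}, inferInstance, inferInstance, fun y => y.elim, fun L M h => ?_⟩
    have e : ∀ L : Subgroup D, mark PEmpty.{u+1} L = 0 := fun L => Nat.card_of_isEmpty
    rw [hst L M h Nat.card_pos, e L, e M]
  | succ k ih =>
    intro X _ _ hX hst
    obtain ⟨Y, _, _, hY, hXY⟩ := exists_level d (k + 1) X hX hst
    obtain ⟨Z, _, _, hZ, hXYZ⟩ := ih (X ⊕ Y)
      (by
        rintro (x | y)
        · rw [stabilizer_inl]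
          exact hX x
        · rw [stabilizer_inr]
          exact (hY y).1)
      (by
        intro L M hLM hk
        rw [mark_sum, mark_sum]
        exact hXY L M hLM hk)
    refine ⟨Y ⊕ Z, inferInstance, inferInstance, ?_, ?_⟩
    · rintro (y | z)
      · rw [stabilizer_inl]
        exact ⟨(hY y).1, (hY y).2.le⟩
      · rw [stabilizer_inr]
        exact ⟨(hZ z).1, (hZ z).2.trans (Nat.le_succ k)⟩
    · intro L M hLM
      have := hXYZ L M hLM
      rw [mark_sum, mark_sum] at this
      rw [mark_sum, mark_sum]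
      omega

end stabilize

end Cfsg.Agent.H980
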